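import Cfsg.Agent.Lib.Cert.McLs.C3D

set_option autoImplicit false
set_option maxRecDepth 100000

namespace Cfsg.Agent.Ct.McLs.C3

open Cfsg.Agent.PC

theorem cb1149 : Nat.beq (rng f2 (nat_lit 1149) (nat_lit 383)) (nat_lit 0) = true := by decide +kernel
theorem cb1532 : Nat.beq (rng f2 (nat_lit 1532) (nat_lit 383)) (nat_lit 0) = true := by decide +kernel
theorem cb1915 : Nat.beq (rng f2 (nat_lit 1915) (nat_lit 383)) (nat_lit 0) = true := by decide +kernel
theorem cb2298 : Nat.beq (rng f2 (nat_lit 2298) (nat_lit 383)) (nat_lit 0) = true := by decide +kernel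
theorem cb2681 : Nat.beq (rng f2 (nat_lit 2681) (nat_lit 383)) (nat_lit 0) = true := by decide +kernel
theorem cb3064 : Nat.beq (rng f2 (nat_lit 3064) (nat_lit 383)) (nat_lit 0) = true := by decide +kernel
theorem cb3447 : Nat.beq (rng f2 (nat_lit 3447) (nat_lit 383)) (nat_lit 0) = true := by decide +kernel
theorem cb3830 : Nat.beq (rng f2 (nat_lit 3830) (nat_lit 383)) (nat_lit 0) = true := by decide +kernel
theorem cb4213 : Nat.beq (rng f2 (nat_lit 4213) (nat_lit 383)) (nat_lit 0) = true := by decide +kernel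
theorem cb4596 : Nat.beq (rng f2 (nat_lit 4596) (nat_lit 383)) (nat_lit 0) = true := by decide +kernel

end Cfsg.Agent.Ct.McLs.C3
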