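import Cfsg.Agent.Lib.Cert.McLs.C3D

set_option autoImplicit false
set_option maxRecDepth 100000

namespace Cfsg.Agent.Ct.McLs.C3

open Cfsg.Agent.PC

theorem cb4979 : Nat.beq (rng f2 (nat_lit 4979) (nat_lit 383)) (nat_lit 0) = true := by decide +kernel
theorem cb5362 : Nat.beq (rng f2 (nat_lit 5362) (nat_lit 383)) (nat_lit 0) = true := by decide +kernel
theorem cb5745 : Nat.beq (rng f2 (nat_lit 5745) (nat_lit 383)) (nat_lit 0) = true := by decide +kernel
theorem cb6128 : Nat.beq (rng f2 (nat_lit 6128) (nat_lit 383)) (nat_lit 0) = true := by decide +kernel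
theorem cb6511 : Nat.beq (rng f2 (nat_lit 6511) (nat_lit 383)) (nat_lit 0) = true := by decide +kernel
theorem cb6894 : Nat.beq (rng f2 (nat_lit 6894) (nat_lit 383)) (nat_lit 0) = true := by decide +kernel
theorem cb7277 : Nat.beq (rng f2 (nat_lit 7277) (nat_lit 383)) (nat_lit 0) = true := by decide +kernel
theorem cb7660 : Nat.beq (rng f2 (nat_lit 7660) (nat_lit 383)) (nat_lit 0) = true := by decide +kernel
theorem cb8043 : Nat.beq (rng f2 (nat_lit 8043) (nat_lit 383)) (nat_lit 0) = true := by decide +kernel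
theorem cb8426 : Nat.beq (rng f2 (nat_lit 8426) (nat_lit 383)) (nat_lit 0) = true := by decide +kernel

end Cfsg.Agent.Ct.McLs.C3
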