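import Cfsg.Agent.Lib.Cert.McLs.C3D

set_option autoImplicit false
set_option maxRecDepth 100000

namespace Cfsg.Agent.Ct.McLs.C3

open Cfsg.Agent.PC

theorem cb8809 : Nat.beq (rng f2 (nat_lit 8809) (nat_lit 383)) (nat_lit 0) = true := by decide +kernel
theorem cb9192 : Nat.beq (rng f2 (nat_lit 9192) (nat_lit 383)) (nat_lit 0) = true := by decide +kernel
theorem cb9575 : Nat.beq (rng f2 (nat_lit 9575) (nat_lit 383)) (nat_lit 0) = true := by decide +kernel
theorem cb9958 : Nat.beq (rng f2 (nat_lit 9958) (nat_lit 383)) (nat_lit 0) = true := by decide +kernel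
theorem cb10341 : Nat.beq (rng f2 (nat_lit 10341) (nat_lit 383)) (nat_lit 0) = true := by decide +kernel
theorem cb10724 : Nat.beq (rng f2 (nat_lit 10724) (nat_lit 383)) (nat_lit 0) = true := by decide +kernel
theorem cb11107 : Nat.beq (rng f2 (nat_lit 11107) (nat_lit 383)) (nat_lit 0) = true := by decide +kernel
theorem cb11490 : Nat.beq (rng f2 (nat_lit 11490) (nat_lit 383)) (nat_lit 0) = true := by decide +kernel
theorem cb11873 : Nat.beq (rng f2 (nat_lit 11873) (nat_lit 383)) (nat_lit 0) = true := by decide +kernel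
theorem cb12256 : Nat.beq (rng f2 (nat_lit 12256) (nat_lit 383)) (nat_lit 0) = true := by decide +kernel

end Cfsg.Agent.Ct.McLs.C3
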