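import Cfsg.Agent.Lib.Cert.McLs.C3D

set_option autoImplicit false
set_option maxRecDepth 100000

namespace Cfsg.Agent.Ct.McLs.C3

open Cfsg.Agent.PC

theorem cb12639 : Nat.beq (rng f2 (nat_lit 12639) (nat_lit 383)) (nat_lit 0) = true := by decide +kernel
theorem cb13022 : Nat.beq (rng f2 (nat_lit 13022) (nat_lit 383)) (nat_lit 0) = true := by decide +kernel
theorem cb13405 : Nat.beq (rng f2 (nat_lit 13405) (nat_lit 383)) (nat_lit 0) = true := by decide +kernel
theorem cb13788 : Nat.beq (rng f2 (nat_lit 13788) (nat_lit 383)) (nat_lit 0) = true := by decide +kernel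
theorem cb14171 : Nat.beq (rng f2 (nat_lit 14171) (nat_lit 383)) (nat_lit 0) = true := by decide +kernel
theorem cb14554 : Nat.beq (rng f2 (nat_lit 14554) (nat_lit 383)) (nat_lit 0) = true := by decide +kernel
theorem cb14937 : Nat.beq (rng f2 (nat_lit 14937) (nat_lit 383)) (nat_lit 0) = true := by decide +kernel
theorem cb15320 : Nat.beq (rng f2 (nat_lit 15320) (nat_lit 383)) (nat_lit 0) = true := by decide +kernel
theorem cb15703 : Nat.beq (rng f2 (nat_lit 15703) (nat_lit 383)) (nat_lit 0) = true := by decide +kernel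
theorem cb16086 : Nat.beq (rng f2 (nat_lit 16086) (nat_lit 383)) (nat_lit 0) = true := by decide +kernel

end Cfsg.Agent.Ct.McLs.C3
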