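import Cfsg.Agent.Lib.Cert.McLs.C3D

set_option autoImplicit false
set_option maxRecDepth 100000

namespace Cfsg.Agent.Ct.McLs.C3

open Cfsg.Agent.PC

theorem cb16469 : Nat.beq (rng f2 (nat_lit 16469) (nat_lit 383)) (nat_lit 0) = true := by decide +kernel
theorem cb16852 : Nat.beq (rng f2 (nat_lit 16852) (nat_lit 383)) (nat_lit 0) = true := by decide +kernel
theorem cb17235 : Nat.beq (rng f2 (nat_lit 17235) (nat_lit 383)) (nat_lit 0) = true := by decide +kernel
theorem cb17618 : Nat.beq (rng f2 (nat_lit 17618) (nat_lit 383)) (nat_lit 0) = true := by decide +kernel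
theorem cb18001 : Nat.beq (rng f2 (nat_lit 18001) (nat_lit 383)) (nat_lit 0) = true := by decide +kernel
theorem cb18384 : Nat.beq (rng f2 (nat_lit 18384) (nat_lit 383)) (nat_lit 0) = true := by decide +kernel
theorem cb18767 : Nat.beq (rng f2 (nat_lit 18767) (nat_lit 383)) (nat_lit 0) = true := by decide +kernel
theorem cb19150 : Nat.beq (rng f2 (nat_lit 19150) (nat_lit 383)) (nat_lit 0) = true := by decide +kernel
theorem cb19533 : Nat.beq (rng f2 (nat_lit 19533) (nat_lit 383)) (nat_lit 0) = true := by decide +kernel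
theorem cb19916 : Nat.beq (rng f2 (nat_lit 19916) (nat_lit 383)) (nat_lit 0) = true := by decide +kernel

end Cfsg.Agent.Ct.McLs.C3
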