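import Cfsg.Agent.Lib.Cert.McLs.C3D

set_option autoImplicit false
set_option maxRecDepth 100000

namespace Cfsg.Agent.Ct.McLs.C3

open Cfsg.Agent.PC

theorem cb20299 : Nat.beq (rng f2 (nat_lit 20299) (nat_lit 383)) (nat_lit 0) = true := by decide +kernel
theorem cb20682 : Nat.beq (rng f2 (nat_lit 20682) (nat_lit 383)) (nat_lit 0) = true := by decide +kernel
theorem cb21065 : Nat.beq (rng f2 (nat_lit 21065) (nat_lit 383)) (nat_lit 0) = true := by decide +kernel
theorem cb21448 : Nat.beq (rng f2 (nat_lit 21448) (nat_lit 383)) (nat_lit 0) = true := by decide +kernel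
theorem cb21831 : Nat.beq (rng f2 (nat_lit 21831) (nat_lit 383)) (nat_lit 0) = true := by decide +kernel
theorem cb22214 : Nat.beq (rng f2 (nat_lit 22214) (nat_lit 61)) (nat_lit 0) = true := by decide +kernel

end Cfsg.Agent.Ct.McLs.C3
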