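import Cfsg.Agent.Lib.Cert.McLs.C3R0
import Cfsg.Agent.Lib.Cert.McLs.C3R1
import Cfsg.Agent.Lib.Cert.McLs.C3R2
import Cfsg.Agent.Lib.Cert.McLs.C3R3
import Cfsg.Agent.Lib.Cert.McLs.C3R4
import Cfsg.Agent.Lib.Cert.McLs.C3R5
import Cfsg.Agent.Lib.Cert.McLs.C3R6

set_option autoImplicit false
set_option maxRecDepth 100000

namespace Cfsg.Agent.Ct.McLs.C3

open Cfsg.Agent.PC

open Cfsg.Agent.Fi Cfsg.Agent.Ct
theorem h1 : ∀ i < 66825, f1 i = 0 := by
  have h := zero_lt_zero f1
  have h := zero_lt_add (a := (nat_lit 0)) (n := (nat_lit 10714)) (b := (nat_lit 10714)) h ca0 rfl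
  have h := zero_lt_add (a := (nat_lit 10714)) (n := (nat_lit 10714)) (b := (nat_lit 21428)) h ca10714 rfl
  have h := zero_lt_add (a := (nat_lit 21428)) (n := (nat_lit 10714)) (b := (nat_lit 32142)) h ca21428 rfl
  have h := zero_lt_add (a := (nat_lit 32142)) (n := (nat_lit 10714)) (b := (nat_lit 42856)) h ca32142 rfl
  have h := zero_lt_add (a := (nat_lit 42856)) (n := (nat_lit 10714)) (b := (nat_lit 53570)) h ca42856 rfl
  have h := zero_lt_add (a := (nat_lit 53570)) (n := (nat_lit 10714)) (b := (nat_lit 64284)) h ca53570 rfl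
  have h := zero_lt_add (a := (nat_lit 64284)) (n := (nat_lit 2541)) (b := (nat_lit 66825)) h ca64284 rfl
  exact h
theorem h2 : ∀ i < 22275, f2 i = 0 := by
  have h := zero_lt_zero f2
  have h := zero_lt_add (a := (nat_lit 0)) (n := (nat_lit 383)) (b := (nat_lit 383)) h cb0 rfl
  have h := zero_lt_add (a := (nat_lit 383)) (n := (nat_lit 383)) (b := (nat_lit 766)) h cb383 rfl
  have h := zero_lt_add (a := (nat_lit 766)) (n := (nat_lit 383)) (b := (nat_lit 1149)) h cb766 rfl
  have h := zero_lt_add (a := (nat_lit 1149)) (n := (nat_lit 383)) (b := (nat_lit 1532)) h cb1149 rfl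
  have h := zero_lt_add (a := (nat_lit 1532)) (n := (nat_lit 383)) (b := (nat_lit 1915)) h cb1532 rfl
  have h := zero_lt_add (a := (nat_lit 1915)) (n := (nat_lit 383)) (b := (nat_lit 2298)) h cb1915 rfl
  have h := zero_lt_add (a := (nat_lit 2298)) (n := (nat_lit 383)) (b := (nat_lit 2681)) h cb2298 rfl
  have h := zero_lt_add (a := (nat_lit 2681)) (n := (nat_lit 383)) (b := (nat_lit 3064)) h cb2681 rfl
  have h := zero_lt_add (a := (nat_lit 3064)) (n := (nat_lit 383)) (b := (nat_lit 3447)) h cb3064 rfl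
  have h := zero_lt_add (a := (nat_lit 3447)) (n := (nat_lit 383)) (b := (nat_lit 3830)) h cb3447 rfl
  have h := zero_lt_add (a := (nat_lit 3830)) (n := (nat_lit 383)) (b := (nat_lit 4213)) h cb3830 rfl
  have h := zero_lt_add (a := (nat_lit 4213)) (n := (nat_lit 383)) (b := (nat_lit 4596)) h cb4213 rfl
  have h := zero_lt_add (a := (nat_lit 4596)) (n := (nat_lit 383)) (b := (nat_lit 4979)) h cb4596 rfl
  have h := zero_lt_add (a := (nat_lit 4979)) (n := (nat_lit 383)) (b := (nat_lit 5362)) h cb4979 rfl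
  have h := zero_lt_add (a := (nat_lit 5362)) (n := (nat_lit 383)) (b := (nat_lit 5745)) h cb5362 rfl
  have h := zero_lt_add (a := (nat_lit 5745)) (n := (nat_lit 383)) (b := (nat_lit 6128)) h cb5745 rfl
  have h := zero_lt_add (a := (nat_lit 6128)) (n := (nat_lit 383)) (b := (nat_lit 6511)) h cb6128 rfl
  have h := zero_lt_add (a := (nat_lit 6511)) (n := (nat_lit 383)) (b := (nat_lit 6894)) h cb6511 rfl
  have h := zero_lt_add (a := (nat_lit 6894)) (n := (nat_lit 383)) (b := (nat_lit 7277)) h cb6894 rfl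
  have h := zero_lt_add (a := (nat_lit 7277)) (n := (nat_lit 383)) (b := (nat_lit 7660)) h cb7277 rfl
  have h := zero_lt_add (a := (nat_lit 7660)) (n := (nat_lit 383)) (b := (nat_lit 8043)) h cb7660 rfl
  have h := zero_lt_add (a := (nat_lit 8043)) (n := (nat_lit 383)) (b := (nat_lit 8426)) h cb8043 rfl
  have h := zero_lt_add (a := (nat_lit 8426)) (n := (nat_lit 383)) (b := (nat_lit 8809)) h cb8426 rfl
  have h := zero_lt_add (a := (nat_lit 8809)) (n := (nat_lit 383)) (b := (nat_lit 9192)) h cb8809 rfl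
  have h := zero_lt_add (a := (nat_lit 9192)) (n := (nat_lit 383)) (b := (nat_lit 9575)) h cb9192 rfl
  have h := zero_lt_add (a := (nat_lit 9575)) (n := (nat_lit 383)) (b := (nat_lit 9958)) h cb9575 rfl
  have h := zero_lt_add (a := (nat_lit 9958)) (n := (nat_lit 383)) (b := (nat_lit 10341)) h cb9958 rfl
  have h := zero_lt_add (a := (nat_lit 10341)) (n := (nat_lit 383)) (b := (nat_lit 10724)) h cb10341 rfl
  have h := zero_lt_add (a := (nat_lit 10724)) (n := (nat_lit 383)) (b := (nat_lit 11107)) h cb10724 rfl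
  have h := zero_lt_add (a := (nat_lit 11107)) (n := (nat_lit 383)) (b := (nat_lit 11490)) h cb11107 rfl
  have h := zero_lt_add (a := (nat_lit 11490)) (n := (nat_lit 383)) (b := (nat_lit 11873)) h cb11490 rfl
  have h := zero_lt_add (a := (nat_lit 11873)) (n := (nat_lit 383)) (b := (nat_lit 12256)) h cb11873 rfl
  have h := zero_lt_add (a := (nat_lit 12256)) (n := (nat_lit 383)) (b := (nat_lit 12639)) h cb12256 rfl
  have h := zero_lt_add (a := (nat_lit 12639)) (n := (nat_lit 383)) (b := (nat_lit 13022)) h cb12639 rfl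
  have h := zero_lt_add (a := (nat_lit 13022)) (n := (nat_lit 383)) (b := (nat_lit 13405)) h cb13022 rfl
  have h := zero_lt_add (a := (nat_lit 13405)) (n := (nat_lit 383)) (b := (nat_lit 13788)) h cb13405 rfl
  have h := zero_lt_add (a := (nat_lit 13788)) (n := (nat_lit 383)) (b := (nat_lit 14171)) h cb13788 rfl
  have h := zero_lt_add (a := (nat_lit 14171)) (n := (nat_lit 383)) (b := (nat_lit 14554)) h cb14171 rfl
  have h := zero_lt_add (a := (nat_lit 14554)) (n := (nat_lit 383)) (b := (nat_lit 14937)) h cb14554 rfl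
  have h := zero_lt_add (a := (nat_lit 14937)) (n := (nat_lit 383)) (b := (nat_lit 15320)) h cb14937 rfl
  have h := zero_lt_add (a := (nat_lit 15320)) (n := (nat_lit 383)) (b := (nat_lit 15703)) h cb15320 rfl
  have h := zero_lt_add (a := (nat_lit 15703)) (n := (nat_lit 383)) (b := (nat_lit 16086)) h cb15703 rfl
  have h := zero_lt_add (a := (nat_lit 16086)) (n := (nat_lit 383)) (b := (nat_lit 16469)) h cb16086 rfl
  have h := zero_lt_add (a := (nat_lit 16469)) (n := (nat_lit 383)) (b := (nat_lit 16852)) h cb16469 rfl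
  have h := zero_lt_add (a := (nat_lit 16852)) (n := (nat_lit 383)) (b := (nat_lit 17235)) h cb16852 rfl
  have h := zero_lt_add (a := (nat_lit 17235)) (n := (nat_lit 383)) (b := (nat_lit 17618)) h cb17235 rfl
  have h := zero_lt_add (a := (nat_lit 17618)) (n := (nat_lit 383)) (b := (nat_lit 18001)) h cb17618 rfl
  have h := zero_lt_add (a := (nat_lit 18001)) (n := (nat_lit 383)) (b := (nat_lit 18384)) h cb18001 rfl
  have h := zero_lt_add (a := (nat_lit 18384)) (n := (nat_lit 383)) (b := (nat_lit 18767)) h cb18384 rfl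
  have h := zero_lt_add (a := (nat_lit 18767)) (n := (nat_lit 383)) (b := (nat_lit 19150)) h cb18767 rfl
  have h := zero_lt_add (a := (nat_lit 19150)) (n := (nat_lit 383)) (b := (nat_lit 19533)) h cb19150 rfl
  have h := zero_lt_add (a := (nat_lit 19533)) (n := (nat_lit 383)) (b := (nat_lit 19916)) h cb19533 rfl
  have h := zero_lt_add (a := (nat_lit 19916)) (n := (nat_lit 383)) (b := (nat_lit 20299)) h cb19916 rfl
  have h := zero_lt_add (a := (nat_lit 20299)) (n := (nat_lit 383)) (b := (nat_lit 20682)) h cb20299 rfl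
  have h := zero_lt_add (a := (nat_lit 20682)) (n := (nat_lit 383)) (b := (nat_lit 21065)) h cb20682 rfl
  have h := zero_lt_add (a := (nat_lit 21065)) (n := (nat_lit 383)) (b := (nat_lit 21448)) h cb21065 rfl
  have h := zero_lt_add (a := (nat_lit 21448)) (n := (nat_lit 383)) (b := (nat_lit 21831)) h cb21448 rfl
  have h := zero_lt_add (a := (nat_lit 21831)) (n := (nat_lit 383)) (b := (nat_lit 22214)) h cb21831 rfl
  have h := zero_lt_add (a := (nat_lit 22214)) (n := (nat_lit 61)) (b := (nat_lit 22275)) h cb22214 rfl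
  exact h
theorem lok : LoK (Cfsg.Spor.McL) 3 := lok_mono McLp.top McLp.ub McLp.iv McLp.rl (M := 66824) (N := 22275) rfl (by decide +kernel) h1 h2
  (u := [nat_lit 1, nat_lit 2, nat_lit 3, nat_lit 0, nat_lit 3, nat_lit 1, nat_lit 4, nat_lit 5, nat_lit 2, nat_lit 6, nat_lit 2, nat_lit 6, nat_lit 3, nat_lit 2, nat_lit 5, nat_lit 6, nat_lit 2, nat_lit 6]) (v := [nat_lit 1, nat_lit 3, nat_lit 5, nat_lit 3, nat_lit 2, nat_lit 1, nat_lit 3, nat_lit 6, nat_lit 2, nat_lit 1, nat_lit 6, nat_lit 0, nat_lit 2, nat_lit 5, nat_lit 1, nat_lit 5]) (by decide +kernel) ((McLp.md).eq (by decide +kernel))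

end Cfsg.Agent.Ct.McLs.C3
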