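import Cfsg.Agent.Lib.Cert.McLs.C3D

set_option autoImplicit false
set_option maxRecDepth 100000

namespace Cfsg.Agent.Ct.McLs.C3

open Cfsg.Agent.PC

theorem ca0 : Nat.beq (rng f1 (nat_lit 0) (nat_lit 10714)) (nat_lit 0) = true := by decide +kernel
theorem ca10714 : Nat.beq (rng f1 (nat_lit 10714) (nat_lit 10714)) (nat_lit 0) = true := by decide +kernel
theorem ca21428 : Nat.beq (rng f1 (nat_lit 21428) (nat_lit 10714)) (nat_lit 0) = true := by decide +kernel
theorem ca32142 : Nat.beq (rng f1 (nat_lit 32142) (nat_lit 10714)) (nat_lit 0) = true := by decide +kernel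
theorem ca42856 : Nat.beq (rng f1 (nat_lit 42856) (nat_lit 10714)) (nat_lit 0) = true := by decide +kernel
theorem ca53570 : Nat.beq (rng f1 (nat_lit 53570) (nat_lit 10714)) (nat_lit 0) = true := by decide +kernel
theorem ca64284 : Nat.beq (rng f1 (nat_lit 64284) (nat_lit 2541)) (nat_lit 0) = true := by decide +kernel
theorem cb0 : Nat.beq (rng f2 (nat_lit 0) (nat_lit 383)) (nat_lit 0) = true := by decide +kernel
theorem cb383 : Nat.beq (rng f2 (nat_lit 383) (nat_lit 383)) (nat_lit 0) = true := by decide +kernel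
theorem cb766 : Nat.beq (rng f2 (nat_lit 766) (nat_lit 383)) (nat_lit 0) = true := by decide +kernel

end Cfsg.Agent.Ct.McLs.C3
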